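import Groth.Agent.VBCurve.K707.Flag
import Groth.Agent.VBCurve.K707.RelBun
import Groth.Agent.Ega3B.SerreTwist
import Groth.Agent.Ega3B.TensRestrict
import Groth.Agent.PerfB.TensInv

/-!
# Serre's lemma on a curve (BunMod, node E1)

`exists_sub`: `E` of rank `r` on a proper curve, `L` ample: for `n ≥ n₀` and `N` inverse to `L^n` there is
`0 ⟶ O^(r-1) ⊗ N ⟶ E ⟶ M ⟶ 0` with `M` invertible.
-/

set_option autoImplicit false
universe u

open CategoryTheory CategoryTheory.Limits AlgebraicGeometry Opposite TopologicalSpace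
open scoped TensorProduct

namespace K824.Serre

open Groth.Agent.Sga67.Sec Groth.Agent.Sga67.LocBasis Groth.Agent.Krr.H495.Rank
open K707.IndepCoker K707.IndepGlob K707.RelBun K707.Indep Groth.Agent

theorem isEquivalence_tensorRight {X : Scheme.{u}} {N : X.Modules} (hN : PicF.IsInvertible N) :
    (DCoh.tensorRightMod N).IsEquivalence := by
  obtain ⟨L', hL', ⟨e⟩⟩ := Grpsch.PicGrp.exists_inverse hN
  exact inferInstanceAs (CategoryTheory.Equivalence.mk (DCoh.tensorRightMod N) (DCoh.tensorRightMod L')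
    (PerfB.TensInv.tensorInvIso e).symm
    (PerfB.TensInv.tensorInvIso (Ega2.Tens.swap L' N ≪≫ e))).functor.IsEquivalence

theorem tens_shortExact {X : Scheme.{u}} {N : X.Modules} (hN : PicF.IsInvertible N)
    {S : ShortComplex X.Modules} (hS : S.ShortExact) : (S.map (DCoh.tensorRightMod N)).ShortExact := by
  have hN1 : FlatMod.IsFinLocFreeOfRank 1 N := Ega2.QCohLocal.isFinLocFreeOfRank_one_iff.mpr hN
  have := PerfB.TensInv.preservesFiniteLimits_of_isFinLocFree (K707.RelBun.isFinLocFree_of_rank hN1)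
  have := isEquivalence_tensorRight hN
  exact hS.map_of_exact _

/-- Replace the middle term of a short exact sequence by an isomorphic one. -/
theorem mid_iso {X : Scheme.{u}} {S : ShortComplex X.Modules} (hS : S.ShortExact) {E : X.Modules}
    (e : S.X₂ ≅ E) : ∃ w : (S.f ≫ e.hom) ≫ (e.inv ≫ S.g) = 0,
      (ShortComplex.mk (S.f ≫ e.hom) (e.inv ≫ S.g) w).ShortExact := by
  refine ⟨by rw [Category.assoc, e.hom_inv_id_assoc, S.zero], ?_⟩
  refine ShortComplex.shortExact_of_iso (ShortComplex.isoMk (S₁ := S) (Iso.refl _) e (Iso.refl _) ?_ ?_) hS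
  · exact Category.id_comp _
  · dsimp only
    rw [e.hom_inv_id_assoc]
    exact (Category.comp_id _).symm

theorem exists_sub {k : Type*} [Field k] [Infinite k] {X : Scheme.{u}} [CompactSpace X] [X.IsSeparated]
    [NoetherianSpace X] (c : k →+* Γ(X, ⊤)) {L : X.Modules} (hL : CohB1.IsAmple L)
    (hd : topologicalKrullDim X ≤ 1) {E : X.Modules} {r : ℕ} (hr : 0 < r)
    (hE : FlatMod.IsFinLocFreeOfRank r E) :
    ∃ n₀ : ℕ, ∀ n ≥ n₀, ∀ N : X.Modules, PicF.IsInvertible N →
      Nonempty (CohB1.tensorMod (CohB1.tensorPow L n) N ≅ Coh.structureModule X) →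
      ∃ (M : X.Modules) (i : CohB1.tensorMod (FlatMod.freeMod X (r - 1)) N ⟶ E) (p : E ⟶ M)
        (w : i ≫ p = 0), (ShortComplex.mk i p w).ShortExact ∧ PicF.IsInvertible M := by
  obtain ⟨n₀, hn⟩ := S2325.result X L hL E
    (PerfA.CohSerre.isCoh_of_isFinLocFree (K707.RelBun.isFinLocFree_of_rank hE))
  refine ⟨n₀, fun n hn₀ N hN hLN => ?_⟩
  obtain ⟨eN⟩ := hLN
  have hgg := hn n hn₀
  have hG : FlatMod.IsFinLocFreeOfRank r (CohB1.tensorMod E (CohB1.tensorPow L n)) := by
    have := rank_tensor hE (rank_tensorPow hL.1 n)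
    rwa [mul_one] at this
  obtain ⟨w, hw⟩ := exists_indep_on c hG hgg hd (fun x : X => x) continuous_id (r - 1) (by omega)
  have hPB : PartBasis (r - (r - 1)) w := fun x => by
    obtain ⟨V, c', hxV, hb⟩ := exists_complement' hG w x (hw x)
    exact ⟨V, c', hxV, hb⟩
  have e1 : r - (r - 1) = 1 := by omega
  rw [e1] at hPB
  have hφ : Mono (homOfFam w) := mono_homOfFam hPB
  have hc := rank_cokernel hPB
  have hN1 : FlatMod.IsFinLocFreeOfRank 1 N := Ega2.QCohLocal.isFinLocFreeOfRank_one_iff.mpr hN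
  have hS' := tens_shortExact hN (K707.Flag.cokernel_shortExact (homOfFam w))
  let e : CohB1.tensorMod (CohB1.tensorMod E (CohB1.tensorPow L n)) N ≅ E :=
    Ega2.Tens.assoc E (CohB1.tensorPow L n) N ≪≫ Ega2.Tens.mapTIso (Iso.refl E) eN ≪≫ Ega2.Tens.runit E
  obtain ⟨w', hw'⟩ := mid_iso hS' e
  refine ⟨CohB1.tensorMod (cokernel (homOfFam w)) N, _, _, w', hw', ?_⟩
  have := rank_tensor hc hN1
  rw [mul_one] at this
  exact Ega2.QCohLocal.isFinLocFreeOfRank_one_iff.mp this

end K824.Serre
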