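import Groth.Agent.BunMod.K824.Det
import Groth.Agent.BunMod.K824.Serre
import Groth.Agent.ShStab.K846.SSOpen
import Groth.Agent.BunMod.K562.OkPull
import Groth.Agent.Variety.K420.DetMain
import Groth.Agent.TautSh.K994.DblDual
import Groth.Agent.CurvesB.VABaseChange
import Groth.Agent.Fga.RigGrp
import Groth.Agent.S1551

/-!
# Two semistable bundles with the same determinant are members of a family over an open of the line (BunMod, node E1)

`exists_family`: `k` algebraically closed, `X` a curve, `L` of degree zero, `F₀`, `F₁` admissible for `ussDetOK r L` over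
the point: there are `f ≠ 0` in `k[t]`, an admissible family `F` over `Spec k[t]_f` and two `k`-points at which the fibres
of `F` are `F₀` and `F₁`.
-/

set_option autoImplicit false
universe u

open CategoryTheory CategoryTheory.Limits AlgebraicGeometry

namespace K824.Join

open K140.BM K824.Fam K824.Det Groth.Agent K562.OkPull

section SSB

variable {k : Type u} [Field k] {X : Scheme.{u}} [X.Over (Spec (CommRingCat.of k))]

theorem SSB_iso {r : ℕ} {Ω : Type u} [Field Ω] {s : Spec (CommRingCat.of Ω) ⟶ B0 k}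
    {E E' : (PicF.XT (st k X) (tpt s)).Modules} (e : Nonempty (E ≅ E')) (h : SSB r s E) : SSB r s E' := by
  obtain ⟨e⟩ := e
  let : (PicF.XT (st k X) (Over.mk s)).Over (Spec (CommRingCat.of Ω)) := ⟨PicF.XTproj (st k X) (Over.mk s)⟩
  obtain ⟨h1, h2, h3⟩ := h
  exact ⟨isFinLocFreeOfRank_of_iso e h1, (deg_iso Ω e r).symm.trans h2, semistable_of_iso e h3⟩

end SSB

section Alg

variable (k : Type u) [Field k]

/-- The spectrum of a `k`-algebra as a test scheme. -/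
noncomputable abbrev sA (R : Type u) [CommRing R] [Algebra k R] : Over (B0 k) :=
  Over.mk (Spec.map (CommRingCat.ofHom (algebraMap k R)))

variable {k}

/-- Morphisms of spectra of `k`-algebras. -/
noncomputable def mA {R R' : Type u} [CommRing R] [Algebra k R] [CommRing R'] [Algebra k R'] (φ : R →ₐ[k] R') :
    sA k R' ⟶ sA k R :=
  Over.homMk (Spec.map (CommRingCat.ofHom φ.toRingHom)) (by
    dsimp only [Over.mk_left, Over.mk_hom]
    rw [← Spec.map_comp, ← CommRingCat.ofHom_comp]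
    congr 2
    exact φ.comp_algebraMap)

/-- A `k`-point of the spectrum of a `k`-algebra. -/
noncomputable def pA {R : Type u} [CommRing R] [Algebra k R] (φ : R →ₐ[k] k) :
    Over.mk (𝟙 (B0 k)) ⟶ sA k R :=
  Over.homMk (Spec.map (CommRingCat.ofHom φ.toRingHom)) (by
    dsimp only [Over.mk_left, Over.mk_hom]
    rw [← Spec.map_comp, ← CommRingCat.ofHom_comp, AlgHom.toRingHom_eq_coe, φ.comp_algebraMap]
    exact Spec.map_id _)

theorem appTop_kOf {R R' : Type u} [CommRing R] [CommRing R'] (φ : R →+* R') (x : R) :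
    (Spec.map (CommRingCat.ofHom φ)).appTop (kOf R x) = kOf R' (φ x) := by
  have h := Scheme.ΓSpecIso_inv_naturality (CommRingCat.ofHom φ)
  exact (ConcreteCategory.congr_hom h x).symm

/-- Opens of the spectrum of a principal ideal domain. -/
theorem exists_basicOpen {R : Type u} [CommRing R] [IsPrincipalIdealRing R] (U : Set (PrimeSpectrum R))
    (hU : IsOpen U) : ∃ f : R, ∀ x : PrimeSpectrum R, x ∈ U ↔ f ∉ x.asIdeal := by
  obtain ⟨I, hI⟩ := (PrimeSpectrum.isClosed_iff_zeroLocus_ideal _).1 hU.isClosed_compl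
  obtain ⟨f, hf⟩ := (IsPrincipalIdealRing.principal I).1
  refine ⟨f, fun x => ?_⟩
  have h1 : x ∈ Uᶜ ↔ x ∈ PrimeSpectrum.zeroLocus (I : Set R) := by rw [hI]
  have h2 : (I : Set R) ⊆ x.asIdeal ↔ f ∈ x.asIdeal := by
    rw [hf]
    exact Submodule.span_singleton_le_iff_mem _ _
  rw [PrimeSpectrum.mem_zeroLocus, h2, Set.mem_compl_iff] at h1
  rw [← h1, not_not]

end Alg

section Main

theorem rank_freeMod {X : Scheme.{u}} (n : ℕ) : FlatMod.IsFinLocFreeOfRank n (FlatMod.freeMod X n) := fun _ =>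
  ⟨⊤, trivial, ⟨(Dcoh.FinLocFree.restrictFree _ n).symm⟩⟩

/-- Two bundles of rank `a + 1` with the same determinant on a curve as extensions of the same line bundle by the same
bundle. -/
theorem exists_dat (k : Type u) [Field k] [IsAlgClosed k] (X : Scheme.{u}) [X.Over (Spec (CommRingCat.of k))]
    [IsProper (X ↘ Spec (CommRingCat.of k))] (hdim : topologicalKrullDim X = 1) {a : ℕ} {E₀ E₁ L : X.Modules}
    (h₀ : FlatMod.IsFinLocFreeOfRank (a + 1) E₀) (h₁ : FlatMod.IsFinLocFreeOfRank (a + 1) E₁)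
    (hL₀ : ExtPow.IsExtPow (a + 1) E₀ L) (hL₁ : ExtPow.IsExtPow (a + 1) E₁ L) :
    ∃ (D : Pencil.Dat X.Modules) (dA : X.Modules), D.G₀ = E₀ ∧ D.G₁ = E₁ ∧ FlatMod.IsFinLocFreeOfRank a D.A ∧
      PicF.IsInvertible D.M ∧ ExtPow.IsExtPow a D.A dA ∧ Nonempty (CohB1.tensorMod dA D.M ≅ L) := by
  have hN : IsNoetherian X := VarietyA.GlobGen.isNoetherian_of_finiteType (X ↘ (Spec (CommRingCat.of k)))
  have hsep : X.IsSeparated := by
    have h1 : IsSeparated ((X ↘ (Spec (CommRingCat.of k))) ≫ terminal.from (Spec (CommRingCat.of k))) :=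
      inferInstance
    rw [← terminalIsTerminal.hom_ext (terminal.from X)
      ((X ↘ (Spec (CommRingCat.of k))) ≫ terminal.from _)] at h1
    exact ⟨h1⟩
  have hinf : Infinite k := IsAlgClosed.instInfinite
  obtain ⟨H, hH⟩ := S1551.result X hdim
  let c : k →+* Γ(X, ⊤) := (st k X).appTop.hom.comp (Scheme.ΓSpecIso (CommRingCat.of k)).inv.hom
  obtain ⟨n₀, hn₀⟩ := Serre.exists_sub c hH hdim.le (Nat.succ_pos a) h₀
  obtain ⟨n₁, hn₁⟩ := Serre.exists_sub c hH hdim.le (Nat.succ_pos a) h₁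
  let n := max n₀ n₁
  have hHn : PicF.IsInvertible (CohB1.tensorPow H n) := by
    have := K707.RelBun.rank_tensorPow hH.1 n
    exact Ega2.QCohLocal.isFinLocFreeOfRank_one_iff.mp this
  obtain ⟨N, hN1, hN2⟩ := Grpsch.PicGrp.exists_inverse hHn
  obtain ⟨M₀, i₀, p₀, w₀, hS₀, hM₀⟩ := hn₀ n (le_max_left _ _) N hN1 hN2
  obtain ⟨M₁, i₁, p₁, w₁, hS₁, hM₁⟩ := hn₁ n (le_max_right _ _) N hN1 hN2
  have hA : FlatMod.IsFinLocFreeOfRank a (CohB1.tensorMod (FlatMod.freeMod X (a + 1 - 1)) N) := by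
    have := Krr.H495.Rank.rank_tensor (rank_freeMod (X := X) a)
      (Ega2.QCohLocal.isFinLocFreeOfRank_one_iff.mpr hN1)
    rwa [mul_one] at this
  obtain ⟨e⟩ := quot_iso hS₀ hS₁ hA hM₀ hM₁ hL₀ hL₁
  obtain ⟨dA, hdA⟩ := K482.CanonTool.exists_isExtPow a (Krr.H495.Rank.isFinLocFree_of_rank hA)
  have w₁' : i₁ ≫ p₁ ≫ e.inv = 0 := by rw [← Category.assoc, w₁, zero_comp]
  refine ⟨⟨_, M₀, E₀, E₁, i₀, p₀, i₁, p₁ ≫ e.inv, w₀, w₁', hS₀, ?_⟩, dA, rfl, rfl, hA, hM₀, hdA,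
    det_iso hS₀ hA hM₀ hdA hL₀⟩
  refine ShortComplex.shortExact_of_iso (ShortComplex.isoMk (S₁ := ShortComplex.mk i₁ p₁ w₁)
    (S₂ := ShortComplex.mk i₁ (p₁ ≫ e.inv) w₁') (Iso.refl _) (Iso.refl _) e.symm ?_ ?_) hS₁
  · exact (Category.id_comp _).trans (Category.comp_id _).symm
  · exact (Category.id_comp _)

section

variable {k : Type u} [Field k] {X : Scheme.{u}} [X.Over (Spec (CommRingCat.of k))]

/-- Restricting modules over the point to `X`. -/
theorem exists_model (F : (PicF.XT (st k X) (Over.mk (𝟙 (B0 k)))).Modules) :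
    ∃ E : X.Modules, Nonempty (cst k (Over.mk (𝟙 (B0 k))) E ≅ F) := by
  have h1 : IsIso (pullback.fst (st k X) (Over.mk (𝟙 (B0 k))).hom) :=
    inferInstanceAs (IsIso (pullback.fst (st k X) (𝟙 (B0 k))))
  refine ⟨(Scheme.Modules.pullback (inv (pullback.fst (st k X) (Over.mk (𝟙 (B0 k))).hom))).obj F,
    ⟨(Scheme.Modules.pullbackComp _ _).app F ≪≫ (Scheme.Modules.pullbackCongr (IsIso.hom_inv_id _)).app F ≪≫
      (Scheme.Modules.pullbackId _).app F⟩⟩

variable (k X) in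
/-- The pull-back of constant families over the point to `X`. -/
theorem model_iso :
    ∃ g : X ⟶ PicF.XT (st k X) (Over.mk (𝟙 (B0 k))), ∀ E : X.Modules,
      Nonempty ((Scheme.Modules.pullback g).obj (cst k (Over.mk (𝟙 (B0 k))) E) ≅ E) := by
  have h1 : IsIso (pullback.fst (st k X) (Over.mk (𝟙 (B0 k))).hom) :=
    inferInstanceAs (IsIso (pullback.fst (st k X) (𝟙 (B0 k))))
  exact ⟨inv (pullback.fst (st k X) (Over.mk (𝟙 (B0 k))).hom), fun E =>
    ⟨(Scheme.Modules.pullbackComp _ _).app E ≪≫ (Scheme.Modules.pullbackCongr (IsIso.inv_hom_id _)).app E ≪≫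
      (Scheme.Modules.pullbackId _).app E⟩⟩

/-- Two bundles with determinant `L`. -/
theorem exists_extPow {r : ℕ} {L : X.Modules} {E : X.Modules}
    {F : (PicF.XT (st k X) (Over.mk (𝟙 (B0 k)))).Modules} (e : Nonempty (cst k (Over.mk (𝟙 (B0 k))) E ≅ F))
    (hF : BunMod.ussDetOK (st k X) r L (Over.mk (𝟙 (B0 k))) F) :
    FlatMod.IsFinLocFreeOfRank r E ∧ ExtPow.IsExtPow r E L := by
  obtain ⟨e⟩ := e
  obtain ⟨hr, ⟨D, hD, hDL⟩, -⟩ := hF
  obtain ⟨g, hg⟩ := model_iso k X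
  obtain ⟨e₁⟩ := hg E
  have hE : FlatMod.IsFinLocFreeOfRank r E := by
    refine isFinLocFreeOfRank_of_iso e₁ ?_
    refine PerfB.FibreConc.isFinLocFreeOfRank_pullback _ ?_
    exact isFinLocFreeOfRank_of_iso e.symm hr
  have hss : Subsingleton ((Over.mk (𝟙 (B0 k))).left : Scheme.{u}) :=
    inferInstanceAs (Subsingleton (PrimeSpectrum k))
  obtain ⟨e₂⟩ := iso_of_r (T := Over.mk (𝟙 (B0 k))) (st k X) (IsLocalRing.closedPoint k) hDL
  obtain ⟨e₃⟩ := hg L
  refine ⟨hE, ?_⟩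
  have h1 := K482.CanonTool.isExtPow_pullback g (Krr.H495.Rank.isFinLocFree_of_rank hr) hD
  have h2 := Krr.H487.ExtPull.isExtPow_of_iso h1 ((Scheme.Modules.pullback g).mapIso e₂.symm ≪≫ e₃)
  exact K994.DblDual.isExtPow_of_iso_left ((Scheme.Modules.pullback g).mapIso e.symm ≪≫ e₁) h2

variable [IsProper (X ↘ Spec (CommRingCat.of k))]

/-- The fibres over the point are semistable of degree zero. -/
theorem ssb_point [IsIntegral X] (hdim : topologicalKrullDim X = 1) {r : ℕ} {L : X.Modules}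
    (hL : Curv2.deg k X L 1 = 0) {F : (PicF.XT (st k X) (Over.mk (𝟙 (B0 k)))).Modules}
    [IsAlgClosed k] (hF : BunMod.ussDetOK (st k X) r L (Over.mk (𝟙 (B0 k))) F) : SSB r (𝟙 (B0 k)) F := by
  let : (PicF.XT (st k X) (Over.mk (𝟙 (B0 k)))).Over (Spec (CommRingCat.of k)) :=
    ⟨PicF.XTproj (st k X) (Over.mk (𝟙 (B0 k)))⟩
  obtain ⟨E, ⟨e⟩⟩ := exists_model F
  obtain ⟨h1, h2⟩ := exists_extPow ⟨e⟩ hF
  refine ⟨hF.1, ?_, ?_⟩
  · rw [← deg_iso k e r]
    have h3 : Spec.map (CommRingCat.ofHom (algebraMap k k)) = 𝟙 (B0 k) := Spec.map_id _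
    have H : IsPullback (pullback.fst (st k X) (𝟙 (B0 k)))
        (PicF.XT (st k X) (Over.mk (𝟙 (B0 k))) ↘ Spec (CommRingCat.of k)) (X ↘ Spec (CommRingCat.of k))
        (Spec.map (CommRingCat.ofHom (algebraMap k k))) := by
      rw [h3]
      exact IsPullback.of_hasPullback _ _
    refine (CurvesB.VABaseChange.deg_eq (k := k) (K := k) H E
      (Ega2.QCohLocal.isQCoh_of_isFinLocFree (Krr.H495.Rank.isFinLocFree_of_rank h1)) r).trans ?_
    rw [K420.DetMain.deg_det k hdim h1 h2, hL]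
  · have h3 := (fibrewise_iff (st k X) _ _ _).1 hF.2.2 k (𝟙 (B0 k)) (𝟙 _)
    refine semistable_of_iso ?_ h3
    exact (Scheme.Modules.pullbackCongr (Fga.RigGrp.XTmap_id (st k X) _)).app F ≪≫
      (Scheme.Modules.pullbackId _).app F

omit [IsProper (X ↘ Spec (CommRingCat.of k))] in
/-- The fibre of the family at a `k`-point where the parameter is `0`. -/
theorem nonempty_fibre_zero (D : Pencil.Dat X.Modules) {E : X.Modules} (hE : D.G₀ = E)
    {F : (PicF.XT (st k X) (Over.mk (𝟙 (B0 k)))).Modules} (e : Nonempty (cst k (Over.mk (𝟙 (B0 k))) E ≅ F))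
    {T : Over (B0 k)} (g : Over.mk (𝟙 (B0 k)) ⟶ T) (t : Γ(T.left, ⊤)) (h : g.left.appTop t = 0) :
    Nonempty (pl k X g (fam D T t) ≅ F) := by
  obtain ⟨e⟩ := e
  obtain ⟨e₁⟩ := nonempty_pl D g t
  rw [h] at e₁
  obtain ⟨e₂⟩ := nonempty_zero D (Over.mk (𝟙 (B0 k)))
  subst hE
  exact ⟨e₁ ≪≫ e₂ ≪≫ e⟩

omit [IsProper (X ↘ Spec (CommRingCat.of k))] in
/-- The fibre of the family at a `k`-point where the parameter is `1`. -/
theorem nonempty_fibre_one (D : Pencil.Dat X.Modules) {E : X.Modules} (hE : D.G₁ = E)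
    {F : (PicF.XT (st k X) (Over.mk (𝟙 (B0 k)))).Modules} (e : Nonempty (cst k (Over.mk (𝟙 (B0 k))) E ≅ F))
    {T : Over (B0 k)} (g : Over.mk (𝟙 (B0 k)) ⟶ T) (t : Γ(T.left, ⊤)) (h : g.left.appTop t = 1) :
    Nonempty (pl k X g (fam D T t) ≅ F) := by
  obtain ⟨e⟩ := e
  obtain ⟨e₁⟩ := nonempty_pl D g t
  rw [h] at e₁
  obtain ⟨e₂⟩ := nonempty_one D (Over.mk (𝟙 (B0 k)))
  subst hE
  exact ⟨e₁ ≪≫ e₂ ≪≫ e⟩

/-- Openness of semistability, for points given by morphisms of test schemes. -/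
theorem exists_open [Smooth (X ↘ Spec (CommRingCat.of k))] [GeometricallyConnected (X ↘ Spec (CommRingCat.of k))]
    (hdim : topologicalKrullDim X = 1) {r : ℕ} (hr : 1 ≤ r) (T : Over (B0 k))
    [IsNoetherian T.left] (F : (PicF.XT (st k X) T).Modules) (hF : FlatMod.IsFinLocFreeOfRank r F)
    {Ω : Type u} [Field Ω] {s : Spec (CommRingCat.of Ω) ⟶ B0 k} (c : Over.mk s ⟶ T) (hss : SSB r s (pl k X c F)) :
    ∃ U : T.left.Opens, c.left (IsLocalRing.closedPoint Ω) ∈ U ∧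
      ∀ (Ω₁ : Type u) [Field Ω₁] (s₁ : Spec (CommRingCat.of Ω₁) ⟶ B0 k) (c₁ : Over.mk s₁ ⟶ T),
        c₁.left (IsLocalRing.closedPoint Ω₁) ∈ U → SSB r s₁ (pl k X c₁ F) := by
  have key : ∀ (Ω : Type u) [Field Ω] (s : Spec (CommRingCat.of Ω) ⟶ B0 k) (t : Spec (CommRingCat.of Ω) ⟶ T.left)
      (w : t ≫ T.hom = s), SSB r s (pl k X (Over.homMk t w : Over.mk s ⟶ T) F) ↔
        SSB r (t ≫ T.hom) (pl k X (Over.homMk t rfl) F) := by
    rintro Ω _ s t rfl
    exact Iff.rfl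
  obtain ⟨U, h1, h2⟩ := K846.SSOpen.exists_open k X hdim hr T F hF Ω c.left
    ((key Ω s c.left (Over.w c)).1 hss)
  refine ⟨U, h1 ⟨_, rfl⟩, fun Ω₁ _ s₁ c₁ h3 => (key Ω₁ s₁ c₁.left (Over.w c₁)).2 (h2 Ω₁ c₁.left ?_)⟩
  rintro _ ⟨x, rfl⟩
  have hss : Subsingleton (Spec (CommRingCat.of Ω₁) : Scheme.{u}) := inferInstanceAs (Subsingleton (PrimeSpectrum Ω₁))
  rwa [Subsingleton.elim x (IsLocalRing.closedPoint Ω₁)]

end

/-- Evaluation on a localisation of the polynomial ring. -/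
theorem exists_ev {k : Type u} [Field k] (f : Polynomial k) (c : k) (hf : f.eval c ≠ 0) :
    ∃ φ : Localization.Away f →ₐ[k] k, φ (algebraMap (Polynomial k) (Localization.Away f) Polynomial.X) = c := by
  have h : ∀ y : Submonoid.powers f, IsUnit (Polynomial.aeval (R := k) c (y : Polynomial k)) := by
    rintro ⟨_, n, rfl⟩
    rw [map_pow]
    exact (IsUnit.mk0 _ (by rwa [Polynomial.coe_aeval_eq_eval])).pow n
  refine ⟨IsLocalization.liftAlgHom (M := Submonoid.powers f) (f := Polynomial.aeval (R := k) c) h, ?_⟩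
  rw [IsLocalization.liftAlgHom_apply]
  refine (IsLocalization.lift_eq _ _).trans ?_
  exact Polynomial.aeval_X c

/-- **Two semistable bundles with the same determinant of degree zero are members of a family over an open of the
line.** -/
theorem exists_family (k : Type u) [Field k] [IsAlgClosed k] (X : Scheme.{u}) [X.Over (Spec (CommRingCat.of k))]
    [IsProper (X ↘ Spec (CommRingCat.of k))] [Smooth (X ↘ Spec (CommRingCat.of k))]
    [GeometricallyConnected (X ↘ Spec (CommRingCat.of k))] (hdim : topologicalKrullDim X = 1) {r : ℕ} (hr : 1 ≤ r)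
    {L : X.Modules} (hL : Curv2.deg k X L 1 = 0)
    {F₀ F₁ : (PicF.XT (st k X) (Over.mk (𝟙 (B0 k)))).Modules}
    (h₀ : BunMod.ussDetOK (st k X) r L (Over.mk (𝟙 (B0 k))) F₀)
    (h₁ : BunMod.ussDetOK (st k X) r L (Over.mk (𝟙 (B0 k))) F₁) :
    ∃ (f : Polynomial k) (w₀ w₁ : Over.mk (𝟙 (B0 k)) ⟶ sA k (Localization.Away f))
      (F : (PicF.XT (st k X) (sA k (Localization.Away f))).Modules), f ≠ 0 ∧
      BunMod.ussDetOK (st k X) r L (sA k (Localization.Away f)) F ∧ Nonempty (pl k X w₀ F ≅ F₀) ∧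
      Nonempty (pl k X w₁ F ≅ F₁) := by
  have hint : IsIntegral X := K533.CurveBasic.isIntegral (k := k) (X ↘ Spec (CommRingCat.of k))
  obtain ⟨a, rfl⟩ : ∃ a, r = a + 1 := ⟨r - 1, by omega⟩
  obtain ⟨E₀, e₀⟩ := exists_model F₀
  obtain ⟨E₁, e₁⟩ := exists_model F₁
  obtain ⟨r₀, l₀⟩ := exists_extPow e₀ h₀
  obtain ⟨r₁, l₁⟩ := exists_extPow e₁ h₁
  obtain ⟨D, dA, hG₀, hG₁, hA, hM, hdA, hdL⟩ := exists_dat k X hdim r₀ r₁ l₀ l₁
  let T₀ : Over (B0 k) := sA k (Polynomial k)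
  have hN : IsNoetherian T₀.left := inferInstanceAs (IsNoetherian (Spec (CommRingCat.of (Polynomial k))))
  let t : Γ(T₀.left, ⊤) := kOf (Polynomial k) Polynomial.X
  have hrk := fam_rank D hA hM T₀ t
  have hpt : ∀ c : k, (pA (Polynomial.aeval (R := k) c)).left.appTop t = kOf k c := by
    intro c
    refine (appTop_kOf (Polynomial.aeval (R := k) c).toRingHom Polynomial.X).trans ?_
    congr 1
    exact Polynomial.aeval_X c
  have hp₀ := nonempty_fibre_zero D hG₀ e₀ (pA (Polynomial.aeval (R := k) 0)) t ((hpt 0).trans (map_zero _))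
  have hp₁ := nonempty_fibre_one D hG₁ e₁ (pA (Polynomial.aeval (R := k) 1)) t ((hpt 1).trans (map_one _))
  obtain ⟨U₀, hU₀, hs₀⟩ := exists_open hdim hr T₀ (fam D T₀ t) hrk (pA (Polynomial.aeval (R := k) 0))
    (SSB_iso (K482.TensCalc.symm hp₀) (ssb_point hdim hL h₀))
  obtain ⟨U₁, hU₁, hs₁⟩ := exists_open hdim hr T₀ (fam D T₀ t) hrk (pA (Polynomial.aeval (R := k) 1))
    (SSB_iso (K482.TensCalc.symm hp₁) (ssb_point hdim hL h₁))
  obtain ⟨f, hf⟩ := exists_basicOpen ((U₀ : Set T₀.left) ∪ (U₁ : Set T₀.left)) (U₀.2.union U₁.2)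
  have hev : ∀ c : k, (pA (Polynomial.aeval (R := k) c)).left (IsLocalRing.closedPoint k) ∈
      (U₀ : Set T₀.left) ∪ (U₁ : Set T₀.left) → f.eval c ≠ 0 := by
    intro c hc h
    refine (hf _).1 hc ?_
    change Polynomial.aeval (R := k) c f ∈ (IsLocalRing.closedPoint k).asIdeal
    rw [Polynomial.coe_aeval_eq_eval, h]
    exact zero_mem _
  obtain ⟨φ₀, hφ₀⟩ := exists_ev f 0 (hev 0 (Or.inl hU₀))
  obtain ⟨φ₁, hφ₁⟩ := exists_ev f 1 (hev 1 (Or.inr hU₁))
  let R := Localization.Away f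
  let v : sA k R ⟶ T₀ := mA (IsScalarTower.toAlgHom k (Polynomial k) R)
  let t' : Γ((sA k R).left, ⊤) := kOf R (algebraMap (Polynomial k) R Polynomial.X)
  have hv : v.left.appTop t = t' := appTop_kOf (IsScalarTower.toAlgHom k (Polynomial k) R).toRingHom Polynomial.X
  refine ⟨f, pA φ₀, pA φ₁, fam D (sA k R) t', ?_, ⟨fam_rank D hA hM _ _, fam_detIs D hA hM hdA hdL _ _, ?_⟩, ?_, ?_⟩
  · rintro rfl
    exact hev 0 (Or.inl hU₀) Polynomial.eval_zero
  · refine (fibrewise_iff (st k X) _ _ _).2 fun Ω _ _ s c => ?_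
    have hss : SSB (a + 1) s (pl k X (c ≫ v) (fam D T₀ t)) := by
      have hmem : (c ≫ v).left (IsLocalRing.closedPoint Ω) ∈ (U₀ : Set T₀.left) ∪ (U₁ : Set T₀.left) := by
        refine (hf _).2 fun h => ?_
        have h2 : algebraMap (Polynomial k) R f ∈ PrimeSpectrum.asIdeal (c.left (IsLocalRing.closedPoint Ω)) := h
        exact (PrimeSpectrum.isPrime (c.left (IsLocalRing.closedPoint Ω))).ne_top
          (Ideal.eq_top_of_isUnit_mem _ h2 (IsLocalization.Away.algebraMap_isUnit f))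
      rcases hmem with h | h
      · exact hs₀ Ω s (c ≫ v) h
      · exact hs₁ Ω s (c ≫ v) h
    obtain ⟨i₁⟩ := nonempty_pl D (c ≫ v) t
    obtain ⟨i₂⟩ := nonempty_pl D c t'
    have h3 : (c ≫ v).left.appTop t = c.left.appTop t' := by
      rw [← hv, Over.comp_left, Scheme.Hom.comp_appTop]
      rfl
    rw [h3] at i₁
    exact (SSB_iso ⟨i₁ ≪≫ i₂.symm⟩ hss).2.2
  · refine nonempty_fibre_zero D hG₀ e₀ (pA φ₀) t' ?_
    refine (appTop_kOf φ₀.toRingHom _).trans ?_
    have h3 : φ₀.toRingHom (algebraMap (Polynomial k) R Polynomial.X) = 0 := hφ₀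
    rw [h3, map_zero]
  · refine nonempty_fibre_one D hG₁ e₁ (pA φ₁) t' ?_
    refine (appTop_kOf φ₁.toRingHom _).trans ?_
    have h3 : φ₁.toRingHom (algebraMap (Polynomial k) R Polynomial.X) = 1 := hφ₁
    rw [h3, map_one]

end Main

end K824.Join
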