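import Groth.Agent.BunMod.K824.Fam
import Groth.Agent.ArSurf.K482.DetSes
import Groth.Agent.ArSurf.K482.CanonTool
import Groth.Agent.PicF.K246.Basic
import Groth.Agent.Ega3B.PullTensor
import Groth.Agent.PerfB.FibreConc

/-!
# Determinants of the family spanned by two extensions (BunMod, node E1)
-/

set_option autoImplicit false
universe u

open CategoryTheory CategoryTheory.Limits AlgebraicGeometry

namespace K824.Det

open K140.BM K824.Fam K482.CanonTool Groth.Agent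

/-- Invertible modules on a scheme with one point are trivial. -/
theorem nonempty_triv {T : Scheme.{u}} [Subsingleton T] (x : T) {M : T.Modules} (hM : PicF.IsInvertible M) :
    Nonempty (M ≅ Coh.structureModule T) := by
  obtain ⟨U, m, hx, hm⟩ := (Fdesc.LocGen.isInvertible_iff M).1 hM x
  obtain rfl : U = ⊤ := by
    rw [eq_top_iff]
    intro y _
    rwa [Subsingleton.elim y x]
  exact K246.Basic.nonempty_iso_of_isGen_top hm

section

variable {X S : Scheme.{u}} (f : X ⟶ S)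

/-- Isomorphic families are identified. -/
theorem r_of_iso {T : Over S} {E E' : (PicF.XT f T).Modules} (e : Nonempty (E ≅ E')) : (ModFun.modProb f).r T E E' := by
  obtain ⟨e⟩ := e
  obtain ⟨e1⟩ := Ega3B.PullTensor.nonempty_pullUnitIso (PicF.XTproj f T)
  exact ⟨Coh.structureModule T.left, K246.Basic.isInvertible_structureModule _,
    ⟨e.symm ≪≫ (Ega2.Tens.runit E).symm ≪≫ Ega2.Tens.mapTIso (Iso.refl _) e1.symm⟩⟩

/-- Over a point identified families are isomorphic. -/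
theorem iso_of_r {T : Over S} [Subsingleton T.left] (x : T.left) {E E' : (PicF.XT f T).Modules}
    (h : (ModFun.modProb f).r T E E') : Nonempty (E ≅ E') := by
  obtain ⟨M, hM, ⟨e⟩⟩ := h
  obtain ⟨e2⟩ := nonempty_triv x hM
  obtain ⟨e1⟩ := Ega3B.PullTensor.nonempty_pullUnitIso (PicF.XTproj f T)
  exact ⟨(Ega2.Tens.runit E).symm ≪≫
    Ega2.Tens.mapTIso (Iso.refl _) (e1.symm ≪≫ (Scheme.Modules.pullback (PicF.XTproj f T)).mapIso e2.symm) ≪≫ e.symm⟩

end

variable {X : Scheme.{u}}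

/-- The determinant of an extension of a line bundle. -/
theorem det_iso {a : ℕ} {A G M L : X.Modules} {i : A ⟶ G} {p : G ⟶ M} {w : i ≫ p = 0}
    (hS : (ShortComplex.mk i p w).ShortExact) (hA : FlatMod.IsFinLocFreeOfRank a A) (hM : PicF.IsInvertible M)
    {dA : X.Modules} (hdA : ExtPow.IsExtPow a A dA) (hL : ExtPow.IsExtPow (a + 1) G L) :
    Nonempty (CohB1.tensorMod dA M ≅ L) :=
  K482.DetSes.det_ses hS hA (Ega2.QCohLocal.isFinLocFreeOfRank_one_iff.mpr hM) hdA hL (Sga67.TensorOps.isExtPow_one M)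

/-- The quotients of two extensions with the same subobject and the same determinant are isomorphic. -/
theorem quot_iso {a : ℕ} {A G₀ G₁ M₀ M₁ L : X.Modules} {i₀ : A ⟶ G₀} {p₀ : G₀ ⟶ M₀} {w₀ : i₀ ≫ p₀ = 0}
    {i₁ : A ⟶ G₁} {p₁ : G₁ ⟶ M₁} {w₁ : i₁ ≫ p₁ = 0}
    (h₀ : (ShortComplex.mk i₀ p₀ w₀).ShortExact) (h₁ : (ShortComplex.mk i₁ p₁ w₁).ShortExact)
    (hA : FlatMod.IsFinLocFreeOfRank a A) (hM₀ : PicF.IsInvertible M₀) (hM₁ : PicF.IsInvertible M₁)
    (hL₀ : ExtPow.IsExtPow (a + 1) G₀ L) (hL₁ : ExtPow.IsExtPow (a + 1) G₁ L) : Nonempty (M₀ ≅ M₁) := by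
  obtain ⟨dA, hdA⟩ := exists_isExtPow a (Krr.H495.Rank.isFinLocFree_of_rank hA)
  have hd := isInvertible_extPow hA hdA
  exact K482.TensCalc.cancel_left hd (K482.TensCalc.trans (det_iso h₀ hA hM₀ hdA hL₀)
    (K482.TensCalc.symm (det_iso h₁ hA hM₁ hdA hL₁)))

section Family

variable {k : Type u} [Field k] {X : Scheme.{u}} [X.Over (Spec (CommRingCat.of k))] (D : Pencil.Dat X.Modules)

theorem fam_rank {a : ℕ} (hA : FlatMod.IsFinLocFreeOfRank a D.A) (hM : PicF.IsInvertible D.M) (T : Over (B0 k))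
    (t : Γ(T.left, ⊤)) : FlatMod.IsFinLocFreeOfRank (a + 1) (fam D T t) := by
  obtain ⟨i, p, w, hS⟩ := exists_shortExact D T t
  exact Krr.H495.Rank.rank_shortExact hS (PerfB.FibreConc.isFinLocFreeOfRank_pullback _ hA)
    (PerfB.FibreConc.isFinLocFreeOfRank_pullback _ (Ega2.QCohLocal.isFinLocFreeOfRank_one_iff.mpr hM))

theorem fam_detIs {a : ℕ} (hA : FlatMod.IsFinLocFreeOfRank a D.A) (hM : PicF.IsInvertible D.M)
    {dA L : X.Modules} (hdA : ExtPow.IsExtPow a D.A dA) (hL : Nonempty (CohB1.tensorMod dA D.M ≅ L))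
    (T : Over (B0 k)) (t : Γ(T.left, ⊤)) : ModFun.DetIs (st k X) (a + 1) L T (fam D T t) := by
  obtain ⟨i, p, w, hS⟩ := exists_shortExact D T t
  obtain ⟨E, hE⟩ := exists_isExtPow (a + 1) (Krr.H495.Rank.isFinLocFree_of_rank (fam_rank D hA hM T t))
  have hA' := PerfB.FibreConc.isFinLocFreeOfRank_pullback (pullback.fst (st k X) T.hom) hA
  have hM' : PicF.IsInvertible (cst k T D.M) := Fdesc.LocGen.isInvertible_pullback _ hM
  have hd := isInvertible_extPow hA hdA
  obtain ⟨e⟩ := det_iso hS hA' hM' (isExtPow_pullback _ (Krr.H495.Rank.isFinLocFree_of_rank hA) hdA) hE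
  obtain ⟨e'⟩ := hL
  exact ⟨E, hE, r_of_iso _ ⟨(Scheme.Modules.pullback _).mapIso e'.symm ≪≫
    Ega3B.PullTensor.pullTensorIso _ hd hM ≪≫ e⟩⟩

end Family

end K824.Det
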