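import Groth.Agent.BunMod.K824.Pencil
import Groth.Agent.BunMod.K140.Defs
import Groth.Agent.VBCurve.K709.KerDesc
import Groth.Agent.Sga67.FlatPre
import Groth.Prelude.Def_FGA

/-!
# The family spanned by two extensions on a curve (BunMod, node E1)

For two extensions `D` of `M` by `A` on `X` over a field `k`, a test scheme `T` over `k` and a function `a` on `T`,
`fam D T a` is the module on `X_T` with class `(1 - a) G₀ + a G₁`.

* `nonempty_pl`: compatible with base change;
* `nonempty_zero`, `nonempty_one`: `fam D T 0 ≅ G₀`, `fam D T 1 ≅ G₁` (constant families);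
* `shortExact`: `0 ⟶ A ⟶ fam D T a ⟶ M ⟶ 0`.
-/

set_option autoImplicit false
universe u

open CategoryTheory CategoryTheory.Limits AlgebraicGeometry

namespace K824.Fam

open K140.BM K709.KerDesc Groth.Agent.LoccohB.HHmap

variable {k : Type u} [Field k] {X : Scheme.{u}} [X.Over (Spec (CommRingCat.of k))]

/-- The functor of constant families. -/
noncomputable abbrev cF (T : Over (B0 k)) : X.Modules ⥤ (PicF.XT (st k X) T).Modules :=
  Scheme.Modules.pullback (pullback.fst (st k X) T.hom)

instance flat_fst (T : Over (B0 k)) : Flat (pullback.fst (st k X) T.hom) := inferInstance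

instance (T : Over (B0 k)) : PreservesFiniteLimits (cF (X := X) T) :=
  Groth.Agent.Sga67.FlatPre.preservesFiniteLimits_pullback _

/-- The isomorphism `g^* (cst_T) ≅ cst_T'`. -/
noncomputable def cFIso {T T' : Over (B0 k)} (g : T' ⟶ T) :
    cF (X := X) T ⋙ Scheme.Modules.pullback (PicF.XTmap (st k X) g) ≅ cF (X := X) T' :=
  Scheme.Modules.pullbackComp (PicF.XTmap (st k X) g) (pullback.fst (st k X) T.hom) ≪≫
    Scheme.Modules.pullbackCongr (FGA.XTmap_fst (st k X) g)

variable (D : Pencil.Dat X.Modules)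

/-- The family. -/
noncomputable def fam (T : Over (B0 k)) (a : Γ(T.left, ⊤)) : (PicF.XT (st k X) T).Modules :=
  (D.map (cF T)).E (smulHom _ (fT k X T a))

/-- `fT` and base change. -/
theorem fT_map {T T' : Over (B0 k)} (g : T' ⟶ T) (a : Γ(T.left, ⊤)) :
    (PicF.XTmap (st k X) g).appTop (fT k X T a) = fT k X T' (g.left.appTop a) := by
  have h : PicF.XTmap (st k X) g ≫ PicF.XTproj (st k X) T = PicF.XTproj (st k X) T' ≫ g.left := by
    simp only [PicF.XTmap, PicF.XTproj, Limits.pullback.map, Limits.pullback.lift_snd]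
  have h2 := congrArg (fun φ : PicF.XT (st k X) T' ⟶ T.left => φ.appTop.hom a) h
  simp only [Scheme.Hom.comp_appTop, CommRingCat.hom_comp, RingHom.comp_apply] at h2
  exact h2

theorem nonempty_pl {T T' : Over (B0 k)} (g : T' ⟶ T) (a : Γ(T.left, ⊤)) :
    Nonempty (pl k X g (fam D T a) ≅ fam D T' (g.left.appTop a)) := by
  refine D.nonempty_comp (cF T) (Scheme.Modules.pullback (PicF.XTmap (st k X) g)) (cF T') (cFIso g)
    (smulHom _ (fT k X T a)) (smulHom _ (fT k X T' (g.left.appTop a))) ?_
  rw [pullback_map_smulHom, smulHom_comp, fT_map]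

theorem nonempty_zero (T : Over (B0 k)) : Nonempty (fam D T 0 ≅ cst k T D.G₀) := by
  rw [fam, map_zero, smulHom_zero]
  exact ⟨(D.map (cF T)).isoZero⟩

theorem nonempty_one (T : Over (B0 k)) : Nonempty (fam D T 1 ≅ cst k T D.G₁) := by
  rw [fam, map_one, smulHom_one]
  exact ⟨(D.map (cF T)).isoOne⟩

theorem exists_shortExact (T : Over (B0 k)) (a : Γ(T.left, ⊤)) :
    ∃ (i : cst k T D.A ⟶ fam D T a) (p : fam D T a ⟶ cst k T D.M) (w : i ≫ p = 0),
      (ShortComplex.mk i p w).ShortExact :=
  ⟨_, _, _, (D.map (cF T)).shortExact _⟩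

end K824.Fam
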