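import Mathlib.CategoryTheory.Abelian.Refinements
import Mathlib.CategoryTheory.Abelian.Exact
import Mathlib.Algebra.Homology.ShortComplex.ExactFunctor
import Mathlib.CategoryTheory.Limits.Preserves.Shapes.Pullbacks
import Mathlib.CategoryTheory.Limits.Preserves.Shapes.Kernels

/-!
# The pencil spanned by two extensions (BunMod, node E1)

`0 ⟶ A ⟶ G₀ ⟶ M ⟶ 0` and `0 ⟶ A ⟶ G₁ ⟶ M ⟶ 0` in an abelian category, `a : A ⟶ A`:
`Dat.E D a = (G₀ ×_M G₁) / {(a x, (a - 1) x)}` is the extension with class `(1 - a) G₀ + a G₁`.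

* `shortExact`: `0 ⟶ A ⟶ E a ⟶ M ⟶ 0`;
* `isoZero : E 0 ≅ G₀`, `isoOne : E 1 ≅ G₁`;
* `mapIso : F (E D a) ≅ E (F D) (F a)` for exact functors `F`.
-/

set_option autoImplicit false
universe v u v' u'

open CategoryTheory CategoryTheory.Limits

namespace K824.Pencil

/-- Two extensions of `M` by `A`. -/
structure Dat (𝒞 : Type u) [Category.{v} 𝒞] [Abelian 𝒞] where
  A : 𝒞
  M : 𝒞
  G₀ : 𝒞
  G₁ : 𝒞
  i₀ : A ⟶ G₀
  p₀ : G₀ ⟶ M
  i₁ : A ⟶ G₁
  p₁ : G₁ ⟶ M
  w₀ : i₀ ≫ p₀ = 0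
  w₁ : i₁ ≫ p₁ = 0
  se₀ : (ShortComplex.mk i₀ p₀ w₀).ShortExact
  se₁ : (ShortComplex.mk i₁ p₁ w₁).ShortExact

namespace Dat

variable {𝒞 : Type u} [Category.{v} 𝒞] [Abelian 𝒞] (D : Dat 𝒞)

instance : Mono D.i₀ := D.se₀.mono_f
instance : Mono D.i₁ := D.se₁.mono_f
instance : Epi D.p₀ := D.se₀.epi_g
instance : Epi D.p₁ := D.se₁.epi_g

/-- `x ↦ (a x, (a - 1) x)`. -/
noncomputable def j (a : D.A ⟶ D.A) : D.A ⟶ pullback D.p₀ D.p₁ :=
  pullback.lift (a ≫ D.i₀) ((a - 𝟙 _) ≫ D.i₁) (by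
    rw [Category.assoc, Category.assoc, D.w₀, D.w₁, comp_zero, comp_zero])

theorem j_fst (a : D.A ⟶ D.A) : D.j a ≫ pullback.fst D.p₀ D.p₁ = a ≫ D.i₀ :=
  pullback.lift_fst _ _ _

theorem j_snd (a : D.A ⟶ D.A) : D.j a ≫ pullback.snd D.p₀ D.p₁ = (a - 𝟙 _) ≫ D.i₁ :=
  pullback.lift_snd _ _ _

/-- The diagonal `x ↦ (x, x)`. -/
noncomputable def dg : D.A ⟶ pullback D.p₀ D.p₁ :=
  pullback.lift D.i₀ D.i₁ (by rw [D.w₀, D.w₁])

theorem dg_fst : D.dg ≫ pullback.fst D.p₀ D.p₁ = D.i₀ := pullback.lift_fst _ _ _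

theorem dg_snd : D.dg ≫ pullback.snd D.p₀ D.p₁ = D.i₁ := pullback.lift_snd _ _ _

instance (a : D.A ⟶ D.A) : Mono (D.j a) := by
  rw [Preadditive.mono_iff_cancel_zero]
  intro T t ht
  have h1 : (t ≫ a) ≫ D.i₀ = 0 := by
    rw [Category.assoc, ← D.j_fst, reassoc_of% ht, zero_comp]
  have h2 : (t ≫ (a - 𝟙 _)) ≫ D.i₁ = 0 := by
    rw [Category.assoc, ← D.j_snd, reassoc_of% ht, zero_comp]
  have h3 : t ≫ a = 0 := by rwa [← cancel_mono D.i₀, zero_comp]
  have h4 : t ≫ (a - 𝟙 _) = 0 := by rwa [← cancel_mono D.i₁, zero_comp]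
  rw [Preadditive.comp_sub, h3, Category.comp_id, zero_sub, neg_eq_zero] at h4
  exact h4

/-- The member `a` of the pencil. -/
noncomputable def E (a : D.A ⟶ D.A) : 𝒞 := cokernel (D.j a)

/-- The projection. -/
noncomputable def π (a : D.A ⟶ D.A) : pullback D.p₀ D.p₁ ⟶ D.E a := cokernel.π (D.j a)

instance (a : D.A ⟶ D.A) : Epi (D.π a) := inferInstanceAs (Epi (cokernel.π (D.j a)))

theorem j_π (a : D.A ⟶ D.A) : D.j a ≫ D.π a = 0 := cokernel.condition _

theorem exact_π (a : D.A ⟶ D.A) : (ShortComplex.mk (D.j a) (D.π a) (D.j_π a)).Exact :=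
  ShortComplex.exact_cokernel _

/-- `A ⟶ E a`. -/
noncomputable def ι (a : D.A ⟶ D.A) : D.A ⟶ D.E a := D.dg ≫ D.π a

/-- `E a ⟶ M`. -/
noncomputable def q (a : D.A ⟶ D.A) : D.E a ⟶ D.M :=
  cokernel.desc (D.j a) (pullback.fst D.p₀ D.p₁ ≫ D.p₀) (by
    rw [← Category.assoc, D.j_fst, Category.assoc, D.w₀, comp_zero])

theorem π_q (a : D.A ⟶ D.A) : D.π a ≫ D.q a = pullback.fst D.p₀ D.p₁ ≫ D.p₀ :=
  cokernel.π_desc _ _ _

theorem ι_q (a : D.A ⟶ D.A) : D.ι a ≫ D.q a = 0 := by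
  rw [ι, Category.assoc, π_q, ← Category.assoc, dg_fst, D.w₀]

instance (a : D.A ⟶ D.A) : Mono (D.ι a) := by
  rw [Preadditive.mono_iff_cancel_zero]
  intro T t ht
  have h0 : (t ≫ D.dg) ≫ D.π a = 0 := by rw [Category.assoc]; exact ht
  let s := (D.exact_π a).lift (t ≫ D.dg) h0
  have hs : s ≫ D.j a = t ≫ D.dg := (D.exact_π a).lift_f _ _
  have h1 : s ≫ a = t := by
    rw [← cancel_mono D.i₀, Category.assoc, ← D.j_fst, reassoc_of% hs, dg_fst]
  have h2 : s ≫ (a - 𝟙 _) = t := by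
    rw [← cancel_mono D.i₁, Category.assoc, ← D.j_snd, reassoc_of% hs, dg_snd]
  rw [Preadditive.comp_sub, h1, Category.comp_id, sub_eq_self] at h2
  rw [← h1, h2, zero_comp]

instance (a : D.A ⟶ D.A) : Epi (D.q a) := by
  have : Epi (D.π a ≫ D.q a) := by rw [π_q]; infer_instance
  exact epi_of_epi (D.π a) _

theorem shortExact (a : D.A ⟶ D.A) :
    (ShortComplex.mk (D.ι a) (D.q a) (D.ι_q a)).ShortExact := by
  refine ShortComplex.ShortExact.mk' ?_ inferInstance inferInstance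
  rw [ShortComplex.exact_iff_exact_up_to_refinements]
  intro T y hy
  dsimp only at hy ⊢
  obtain ⟨T', e, he, y', hy'⟩ := surjective_up_to_refinements_of_epi (D.π a) y
  have h1 : (y' ≫ pullback.fst D.p₀ D.p₁) ≫ D.p₀ = 0 := by
    rw [Category.assoc, ← D.π_q a, ← Category.assoc, ← hy', Category.assoc, hy, comp_zero]
  have h2 : (y' ≫ pullback.snd D.p₀ D.p₁) ≫ D.p₁ = 0 := by
    rw [Category.assoc, ← pullback.condition, ← Category.assoc, h1]
  let α := D.se₀.exact.lift _ h1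
  let β := D.se₁.exact.lift _ h2
  have hα : α ≫ D.i₀ = y' ≫ pullback.fst D.p₀ D.p₁ := D.se₀.exact.lift_f _ _
  have hβ : β ≫ D.i₁ = y' ≫ pullback.snd D.p₀ D.p₁ := D.se₁.exact.lift_f _ _
  refine ⟨T', e, he, α - (α - β) ≫ a, ?_⟩
  have key : y' = (α - (α - β) ≫ a) ≫ D.dg + (α - β) ≫ D.j a := by
    apply pullback.hom_ext
    · rw [Preadditive.add_comp, Category.assoc, Category.assoc, dg_fst, j_fst, ← hα,
        Preadditive.sub_comp, Category.assoc, sub_add_cancel]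
    · rw [Preadditive.add_comp, Category.assoc, Category.assoc, dg_snd, j_snd, ← hβ,
        ← Category.assoc, ← Preadditive.add_comp, Preadditive.comp_sub, Category.comp_id]
      congr 1
      abel
  rw [hy', key, Preadditive.add_comp, Category.assoc, Category.assoc, j_π, comp_zero, add_zero]
  rfl

theorem j_zero_fst : D.j 0 ≫ pullback.fst D.p₀ D.p₁ = 0 := by rw [j_fst, zero_comp]

theorem j_one_snd : D.j (𝟙 _) ≫ pullback.snd D.p₀ D.p₁ = 0 := by rw [j_snd, sub_self, zero_comp]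

theorem exact_fst : (ShortComplex.mk (D.j 0) (pullback.fst D.p₀ D.p₁) D.j_zero_fst).Exact := by
  rw [ShortComplex.exact_iff_exact_up_to_refinements]
  intro T y hy
  dsimp only at hy ⊢
  have h2 : (y ≫ pullback.snd D.p₀ D.p₁) ≫ D.p₁ = 0 := by
    rw [Category.assoc, ← pullback.condition, ← Category.assoc, hy, zero_comp]
  let β := D.se₁.exact.lift _ h2
  have hβ : β ≫ D.i₁ = y ≫ pullback.snd D.p₀ D.p₁ := D.se₁.exact.lift_f _ _
  refine ⟨T, 𝟙 _, inferInstance, -β, ?_⟩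
  rw [Category.id_comp]
  apply pullback.hom_ext
  · rw [Category.assoc, j_zero_fst, hy, comp_zero]
  · rw [Category.assoc, j_snd, ← hβ, zero_sub]
    simp

theorem exact_snd : (ShortComplex.mk (D.j (𝟙 _)) (pullback.snd D.p₀ D.p₁) D.j_one_snd).Exact := by
  rw [ShortComplex.exact_iff_exact_up_to_refinements]
  intro T y hy
  dsimp only at hy ⊢
  have h2 : (y ≫ pullback.fst D.p₀ D.p₁) ≫ D.p₀ = 0 := by
    rw [Category.assoc, pullback.condition, ← Category.assoc, hy, zero_comp]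
  let β := D.se₀.exact.lift _ h2
  have hβ : β ≫ D.i₀ = y ≫ pullback.fst D.p₀ D.p₁ := D.se₀.exact.lift_f _ _
  refine ⟨T, 𝟙 _, inferInstance, β, ?_⟩
  rw [Category.id_comp]
  apply pullback.hom_ext
  · rw [Category.assoc, j_fst, Category.id_comp, hβ]
  · rw [Category.assoc, j_one_snd, hy, comp_zero]

/-- The member `0` of the pencil. -/
noncomputable def isoZero : D.E 0 ≅ D.G₀ :=
  IsColimit.coconePointUniqueUpToIso (colimit.isColimit _) D.exact_fst.gIsCokernel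

/-- The member `1` of the pencil. -/
noncomputable def isoOne : D.E (𝟙 _) ≅ D.G₁ :=
  IsColimit.coconePointUniqueUpToIso (colimit.isColimit _) D.exact_snd.gIsCokernel

variable {𝒟 : Type u'} [Category.{v'} 𝒟] [Abelian 𝒟] (F : 𝒞 ⥤ 𝒟) [F.Additive]
  [PreservesFiniteLimits F] [PreservesFiniteColimits F]

/-- The image of the data under an exact functor. -/
noncomputable def map : Dat 𝒟 where
  A := F.obj D.A
  M := F.obj D.M
  G₀ := F.obj D.G₀
  G₁ := F.obj D.G₁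
  i₀ := F.map D.i₀
  p₀ := F.map D.p₀
  i₁ := F.map D.i₁
  p₁ := F.map D.p₁
  w₀ := by rw [← F.map_comp, D.w₀, F.map_zero]
  w₁ := by rw [← F.map_comp, D.w₁, F.map_zero]
  se₀ := D.se₀.map_of_exact F
  se₁ := D.se₁.map_of_exact F

theorem map_j (a : D.A ⟶ D.A) :
    F.map (D.j a) ≫ (PreservesPullback.iso F D.p₀ D.p₁).hom = (D.map F).j (F.map a) := by
  apply pullback.hom_ext
  · rw [Category.assoc, PreservesPullback.iso_hom_fst, ← F.map_comp, j_fst, F.map_comp]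
    exact ((D.map F).j_fst (F.map a)).symm
  · rw [Category.assoc, PreservesPullback.iso_hom_snd, ← F.map_comp, j_snd, F.map_comp,
      F.map_sub, F.map_id]
    exact ((D.map F).j_snd (F.map a)).symm

/-- Members of the pencil and exact functors. -/
noncomputable def mapIso (a : D.A ⟶ D.A) : F.obj (D.E a) ≅ (D.map F).E (F.map a) :=
  PreservesCokernel.iso F (D.j a) ≪≫
    cokernel.mapIso (F.map (D.j a)) ((D.map F).j (F.map a)) (Iso.refl _)
      (PreservesPullback.iso F D.p₀ D.p₁) ((D.map_j F a).trans (Category.id_comp _).symm)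

theorem j_eq (a : D.A ⟶ D.A) : D.j a = a ≫ D.dg + D.j 0 := by
  apply pullback.hom_ext
  · rw [Preadditive.add_comp, Category.assoc, dg_fst, j_fst, j_fst, zero_comp, add_zero]
  · rw [Preadditive.add_comp, Category.assoc, dg_snd, j_snd, j_snd, Preadditive.sub_comp, zero_sub,
      Preadditive.neg_comp, Category.id_comp, sub_eq_add_neg]

omit [PreservesFiniteLimits F] [PreservesFiniteColimits F] in
/-- The map whose cokernel is the member `a` of the image of the pencil. -/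
noncomputable def jF (D : Dat 𝒞) (F : 𝒞 ⥤ 𝒟) (a : F.obj D.A ⟶ F.obj D.A) :
    F.obj D.A ⟶ F.obj (pullback D.p₀ D.p₁) :=
  a ≫ F.map D.dg + F.map (D.j 0)

theorem jF_iso (a : F.obj D.A ⟶ F.obj D.A) :
    D.jF F a ≫ (PreservesPullback.iso F D.p₀ D.p₁).hom = (D.map F).j a := by
  apply pullback.hom_ext
  · rw [Category.assoc, PreservesPullback.iso_hom_fst, jF, Preadditive.add_comp, Category.assoc, ← F.map_comp,
      ← F.map_comp, dg_fst, j_fst, zero_comp, F.map_zero, add_zero]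
    exact ((D.map F).j_fst a).symm
  · rw [Category.assoc, PreservesPullback.iso_hom_snd, jF, Preadditive.add_comp, Category.assoc, ← F.map_comp,
      ← F.map_comp, dg_snd, j_snd, zero_sub, Preadditive.neg_comp, Category.id_comp, F.map_neg, ← sub_eq_add_neg]
    refine Eq.trans ?_ ((D.map F).j_snd a).symm
    have h : (a - 𝟙 (F.obj D.A)) ≫ F.map D.i₁ = a ≫ F.map D.i₁ - F.map D.i₁ := by
      rw [Preadditive.sub_comp, Category.id_comp]
    exact h.symm

/-- The members of the image of the pencil as cokernels. -/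
noncomputable def mapEIso (a : F.obj D.A ⟶ F.obj D.A) : cokernel (D.jF F a) ≅ (D.map F).E a :=
  cokernel.mapIso (D.jF F a) ((D.map F).j a) (Iso.refl _) (PreservesPullback.iso F D.p₀ D.p₁)
    ((D.jF_iso F a).trans (Category.id_comp _).symm)

/-- Members of the pencil and right exact functors: `G F ≅ H` with `F`, `H` exact and `G` right exact. -/
theorem nonempty_comp {ℰ : Type*} [Category ℰ] [Abelian ℰ] (G : 𝒟 ⥤ ℰ) [G.Additive]
    [PreservesFiniteColimits G] (H : 𝒞 ⥤ ℰ) [H.Additive] [PreservesFiniteLimits H] [PreservesFiniteColimits H]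
    (η : F ⋙ G ≅ H) (a : F.obj D.A ⟶ F.obj D.A) (b : H.obj D.A ⟶ H.obj D.A)
    (h : G.map a ≫ η.hom.app D.A = η.hom.app D.A ≫ b) :
    Nonempty (G.obj ((D.map F).E a) ≅ (D.map H).E b) := by
  have hn : ∀ {Y Z : 𝒞} (φ : Y ⟶ Z), G.map (F.map φ) ≫ η.hom.app Z = η.hom.app Y ≫ H.map φ := fun φ =>
    η.hom.naturality φ
  have hs : G.map (D.jF F a) ≫ (η.app (pullback D.p₀ D.p₁)).hom = (η.app D.A).hom ≫ D.jF H b := by
    rw [Iso.app_hom, Iso.app_hom, jF, jF, G.map_add, G.map_comp, Preadditive.add_comp, Category.assoc, hn, hn,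
      reassoc_of% h, Preadditive.comp_add, ← Category.assoc]
  exact ⟨G.mapIso (D.mapEIso F a).symm ≪≫ PreservesCokernel.iso G (D.jF F a) ≪≫
    cokernel.mapIso (G.map (D.jF F a)) (D.jF H b) (η.app D.A) (η.app (pullback D.p₀ D.p₁)) hs ≪≫ D.mapEIso H b⟩

end Dat

end K824.Pencil
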